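import Cfsg.Agent.Lib.Perm.Derangement

/-!
# Transitive groups all of whose derangements are involutions

The number of pairs `(g, a)` with `g² a = a` is at most the sum of the squares of the numbers of fixed
points. If every derangement is an involution this forces every non-identity element to fix at most
one point.
-/

set_option autoImplicit false
set_option linter.unusedSectionVars false

namespace CfsgLib.DerangInvol

open MulAction Finset

variable {G Ω : Type*} [Group G] [Fintype G] [MulAction G Ω] [Fintype Ω] [DecidableEq Ω]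

theorem card_fixedBy_eq_sum (g : G) :
    Nat.card (fixedBy Ω g) = ∑ a : Ω, if g • a = a then 1 else 0 := by
  rw [← Finset.card_filter, Nat.card_eq_fintype_card]
  exact Fintype.card_of_subtype _ fun a => by simp [mem_fixedBy]

theorem sum_sq_le :
    ∑ g : G, Nat.card (fixedBy Ω (g * g)) ≤ ∑ g : G, Nat.card (fixedBy Ω g) ^ 2 := by
  classical
  have h1 : ∀ g : G, Nat.card (fixedBy Ω (g * g)) =
      ∑ a : Ω, ∑ b : Ω, if g • a = b ∧ g • b = a then 1 else 0 := fun g => by
    rw [card_fixedBy_eq_sum]
    refine Finset.sum_congr rfl fun a _ => ?_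
    rw [Finset.sum_eq_single (g • a) (fun b _ hb => if_neg fun h => hb h.1.symm)
      (fun h => absurd (Finset.mem_univ _) h)]
    simp [mul_smul]
  have h2 : ∀ g : G, Nat.card (fixedBy Ω g) ^ 2 =
      ∑ a : Ω, ∑ b : Ω, if g • a = a ∧ g • b = b then 1 else 0 := fun g => by
    rw [card_fixedBy_eq_sum, pow_two, Finset.sum_mul_sum]
    exact Finset.sum_congr rfl fun x _ => Finset.sum_congr rfl fun y _ => by
      split_ifs <;> simp_all
  simp only [h1, h2]
  rw [Finset.sum_comm]
  conv_rhs => rw [Finset.sum_comm]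
  refine Finset.sum_le_sum fun a _ => ?_
  rw [Finset.sum_comm]
  conv_rhs => rw [Finset.sum_comm]
  refine Finset.sum_le_sum fun b _ => ?_
  rw [← Finset.card_filter, ← Finset.card_filter]
  rcases (univ.filter fun g : G => g • a = b ∧ g • b = a).eq_empty_or_nonempty with h | ⟨s, hs⟩
  · rw [h, Finset.card_empty]
    exact Nat.zero_le _
  simp only [Finset.mem_filter, Finset.mem_univ, true_and] at hs
  refine Finset.card_le_card_of_injOn (fun g => s⁻¹ * g) (fun g hg => ?_)
    (fun g _ g' _ h => mul_left_cancel h)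
  simp only [Finset.coe_filter, Finset.mem_univ, true_and, Set.mem_setOf_eq] at hg ⊢
  exact ⟨by rw [mul_smul, hg.1, inv_smul_eq_iff, hs.1], by rw [mul_smul, hg.2, inv_smul_eq_iff, hs.2]⟩

/-- Every element fixes at most one point, unless it fixes all of them. -/
theorem fix_le_one [Nonempty Ω] [IsPretransitive G Ω]
    (hinv : ∀ g : G, (∀ ω : Ω, g • ω ≠ ω) → g * g = 1) (g : G) {a b : Ω} (ha : g • a = a)
    (hb : g • b = b) (hab : a ≠ b) : ∀ c : Ω, g • c = c := by
  classical
  set f : G → ℤ := fun g => (Nat.card (fixedBy Ω g) : ℤ) with hf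
  set n : ℤ := (Nat.card Ω : ℤ) with hn
  have hfn : ∀ x : G, f x ≤ n := fun x => by
    show (Nat.card (fixedBy Ω x) : ℤ) ≤ (Nat.card Ω : ℤ)
    exact Int.ofNat_le.mpr (Nat.card_le_card_of_injective _ Subtype.val_injective)
  have hsum : ∑ x : G, (f x - 1) = 0 := by
    rw [Finset.sum_sub_distrib, hf]
    rw [← Nat.cast_sum, CfsgLib.Perm.sum_natCard_fixedBy_of_transitive]
    simp
  let F : G → ℤ := fun x => f x ^ 2 - f x - if f x = 0 then n else 0
  have hF : ∀ x, F x ≤ n * (f x - 1) := fun x => by
    show f x ^ 2 - f x - (if f x = 0 then n else 0) ≤ n * (f x - 1)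
    split_ifs with h
    · rw [h]; ring_nf; rfl
    · have h0 : 0 ≤ f x := Int.natCast_nonneg _
      have h1 : 1 ≤ f x := by omega
      nlinarith [hfn x]
  have hpos : 0 ≤ ∑ x : G, F x := by
    have h1 : ∀ x : G, f x + (if f x = 0 then n else 0) ≤ f (x * x) := fun x => by
      split_ifs with h
      · rw [h, zero_add]
        have hd : ∀ ω : Ω, x • ω ≠ ω := fun ω hω => by
          have h' : Nat.card (fixedBy Ω x) = 0 := Int.ofNat_eq_zero.mp h
          haveI : Nonempty (fixedBy Ω x) := ⟨⟨ω, hω⟩⟩
          exact (Nat.card_pos (α := fixedBy Ω x)).ne' h'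
        show n ≤ (Nat.card (fixedBy Ω (x * x)) : ℤ)
        rw [hinv x hd, fixedBy_one_eq_univ, Nat.card_coe_set_eq, Set.ncard_univ]
      · rw [add_zero]
        show (Nat.card (fixedBy Ω x) : ℤ) ≤ (Nat.card (fixedBy Ω (x * x)) : ℤ)
        exact Int.ofNat_le.mpr (Nat.card_mono (s := fixedBy Ω x) (t := fixedBy Ω (x * x))
          (Set.toFinite _) fun ω (hω : x • ω = ω) => by rw [mem_fixedBy, mul_smul, hω, hω])
    have h2 : ∑ x : G, f (x * x) ≤ ∑ x : G, f x ^ 2 := by
      simp only [hf]
      exact_mod_cast sum_sq_le (G := G) (Ω := Ω)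
    have h3 := Finset.sum_le_sum (s := univ) fun x _ => h1 x
    have h4 : ∑ x : G, F x = ∑ x : G, f x ^ 2 - ∑ x : G, (f x + if f x = 0 then n else 0) := by
      rw [← Finset.sum_sub_distrib]
      exact Finset.sum_congr rfl fun x _ => by simp only [F]; ring
    linarith
  have hle : ∑ x : G, F x ≤ ∑ x : G, n * (f x - 1) := Finset.sum_le_sum fun x _ => hF x
  have heq : ∀ x ∈ univ, F x = n * (f x - 1) := (Finset.sum_eq_sum_iff_of_le fun x _ => hF x).mp (by
    rw [← Finset.mul_sum, hsum, mul_zero] at hle ⊢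
    linarith)
  have h2 : 2 ≤ f g := by
    have : 1 < Nat.card (fixedBy Ω g) := Finite.one_lt_card_iff_nontrivial.mpr
      ⟨⟨a, ha⟩, ⟨b, hb⟩, fun h => hab (congrArg Subtype.val h)⟩
    show (2 : ℤ) ≤ (Nat.card (fixedBy Ω g) : ℤ)
    exact_mod_cast this
  have h := heq g (Finset.mem_univ g)
  simp only [F, if_neg (show f g ≠ 0 by omega), sub_zero] at h
  have hfull : f g = n := by
    have : (f g - 1) * (n - f g) = 0 := by linear_combination -h
    rcases mul_eq_zero.mp this with h' | h'
    · omega
    · omega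
  intro c
  have : fixedBy Ω g = Set.univ := Set.eq_of_subset_of_ncard_le (Set.subset_univ _) (by
    rw [Set.ncard_univ, ← Nat.card_coe_set_eq]
    exact Int.ofNat_le.mp hfull.ge) (Set.toFinite _)
  exact Set.eq_univ_iff_forall.mp this c

end CfsgLib.DerangInvol
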